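import Mathlib

/-! Small finite fields with table arithmetic, for kernel computations. -/

set_option autoImplicit false

namespace Cfsg.Lib.Asch

/-- elements `< N` with addition table `A`, multiplication table `M`, inversion table `I`, and `m` the code of `-1` -/
structure TF (N A M I m : ℕ) where
  val : Fin N
deriving DecidableEq

namespace TF
variable {N A M I m : ℕ} [NeZero N]

/-- the element with a given code -/
def c (a : ℕ) : TF N A M I m := ⟨Fin.ofNat N a⟩
instance instAdd : Add (TF N A M I m) := ⟨fun a b => c (A >>> (5 * (a.val.val * N + b.val.val)) % 32)⟩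
instance instMul : Mul (TF N A M I m) := ⟨fun a b => c (M >>> (5 * (a.val.val * N + b.val.val)) % 32)⟩
instance instInv : Inv (TF N A M I m) := ⟨fun a => c (I >>> (5 * a.val.val) % 32)⟩
instance instNeg : Neg (TF N A M I m) := ⟨fun a => c m * a⟩
instance instZero : Zero (TF N A M I m) := ⟨c 0⟩
instance instOne : One (TF N A M I m) := ⟨c 1⟩
instance decForall (p : TF N A M I m → Prop) [DecidablePred p] : Decidable (∀ x, p x) :=
  decidable_of_iff (∀ a : Fin N, p ⟨a⟩) ⟨fun h x => h x.val, fun h _ => h _⟩
instance instFintype : Fintype (TF N A M I m) := Fintype.ofEquiv (Fin N) ⟨mk, val, fun _ => rfl, fun _ => rfl⟩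
theorem card : Fintype.card (TF N A M I m) = N := (Fintype.ofEquiv_card _).trans (Fintype.card_fin N)

/-- a vector from a list of codes -/
def vec (n : ℕ) (l : List ℕ) : Fin n → TF N A M I m := fun i => c (l.getD i 0)
/-- a matrix from a list of rows -/
def mat (n : ℕ) (l : List (List ℕ)) : Matrix (Fin n) (Fin n) (TF N A M I m) := Matrix.of fun i => vec n (l.getD i [])

end TF

abbrev F4 := TF 4 0x4430806210c0118820
  0x1046008c401882000000
  0x10c20 1

instance fieldF4 : Field F4 := Field.ofMinimalAxioms _ (by decide +kernel) (by decide +kernel) (by decide +kernel)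
  (by decide +kernel) (by decide +kernel) (by decide +kernel) (by decide +kernel) (by decide +kernel) (by decide +kernel)
  ⟨0, 1, by decide +kernel⟩

abbrev F9 := TF 9 0x41942011cc819480104c839483104083982011cc820ca0104c838ca410408398a419cc820ca1008c838ca400828398a418820
  0x6094433910008d06110a70150221c233004620c283940311c262a08039028288c3010a33a0c11010731483104000000000000
  0x740c8530820 2

instance fieldF9 : Field F9 := Field.ofMinimalAxioms _ (by decide +kernel) (by decide +kernel) (by decide +kernel)
  (by decide +kernel) (by decide +kernel) (by decide +kernel) (by decide +kernel) (by decide +kernel) (by decide +kernel)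
  ⟨0, 1, by decide +kernel⟩

abbrev F25 := TF 25 0x128c1f36b16a720e62a46208097b56988c1f39316a734e62a50208083b5698bc1f39456a735862a5070808315698bd9f39460a7358b2a5073008310698bdab39460f7358b525073148310418bdab46b16a720e62a46208097b56989460f9b16a734e62a50208083b5698bc60f9c96a735862a5070808315698bda0f9ca2a7358b2a5073008310698bdaaf9ca307358b525073148310418bdab49ca307a0e62a46208097b56989460f9b58b538e62a50208083b5698bc60f9c98b539a62a5070808315698bda0f9ca2b539ac2a5073008310698bdaaf9ca30539ac5a5073148310418bdab49ca307b9ac5a86208097b56989460f9b58b539073152208083b5698bc60f9c98b539a7315280808315698bda0f9ca2b539ac315283808310698bdaaf9ca30539ac595283988310418bdab49ca307b9ac5a928398b7b56989460f9b58b539073152310404b5698bc60f9c98b539a731528104041d698bda0f9ca2b539ac315283840418a98bdaaf9ca30539ac595283980418838bdab49ca307b9ac5a928398a418820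
  0xd9d0277d44875869540855c6e664b009d4656050a8e1afb10d4125723ba17050667458fb85243aa55860456a173b002574ad7119537e0675b2142212d8d407646c24ba7821970a850d95c6553e80785974e0b01346ea1a27911555d9130550f138b122ef30b6871aac9833069004ab9a70232882c82eb60ef1adb54c4088855812e89954b31b1e46d8ceb9e0076133236e890d963c44ba9a01550af059a4798732d589a2c5250628c40f77006f3e16e0c8b6a309041aea14e29ab409b2870a34333ac912dc4f455d23618051247a9a8e1c4502e1b7605e99a2cb040d558627b305245da39a70e23cb450094831071e1eb518579c9c50dab16a4051620d928e4a86ef625c61d2369ad005a454912cf69a2a407051d66cbc1c70456525d491da08155ee0d26d3e24c302f26a07582cc1c4dc925a2c38a8f514063a1255b1ae542329beb6be28110c806396d55b15bd0e9320b19c24f1102304a138bd0649cb7ae2d46adcc50c2410317b56939460f7358b525073148310400000000000000000000000000000000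
  0x159c30abb5962a2513d0ce5a5e410c20 4

instance fieldF25 : Field F25 := Field.ofMinimalAxioms _ (by decide +kernel) (by decide +kernel) (by decide +kernel)
  (by decide +kernel) (by decide +kernel) (by decide +kernel) (by decide +kernel) (by decide +kernel) (by decide +kernel)
  ⟨0, 1, by decide +kernel⟩

theorem card_F4 : Fintype.card F4 = 2 ^ 2 := TF.card
theorem card_F9 : Fintype.card F9 = 3 ^ 2 := TF.card
theorem card_F25 : Fintype.card F25 = 5 ^ 2 := TF.card

end Cfsg.Lib.Asch
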