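import Cfsg.Agent.Lib.Asch.Singer

/-! Singer normalisers in `SL₃(4)`, `SU₃(3)` and `SU₅(2)` are not maximal. -/

set_option autoImplicit false

namespace Cfsg.Lib.Asch

open scoped MatrixGroups Matrix
open Cfsg.Geo Module TF

attribute [local instance 2000] List.decidableBAll List.decidableBEx

variable {F : Type*} [Field F] [Fintype F]

namespace L34

def l : List (Fin 3 → F4) := [[0, 0, 1], [0, 1, 0], [0, 1, 1], [1, 0, 0], [1, 0, 1], [1, 1, 0], [1, 1, 1]].map (vec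
    3)

def b : ℕ := 0x900905050033953e

theorem mem (x : Fin 3 → F4) (h : tst b x = true) : x ∈ pts l :=
  (forall_three (p := fun x => tst b x = true → ∃ p ∈ l, x = lead x • p) (by decide +kernel) x h).elim fun p hp => ⟨_, p, hp⟩

def u : GL (Fin 3) F4 := mkGL (mat 3 [[1, 3, 0], [0, 1, 0], [0, 0, 1]]) (mat 3 [[1, 3, 0], [0, 1, 0], [0, 0, 1]])
    (by decide +kernel)

theorem not_le : ¬ specialLinear _ F4 ≤ vstab (pts l) :=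
  not_le_pts (u := u) (mem_sl.2 (by decide +kernel)) (p := vec 3 [1, 1, 1]) (y := vec 3 [2, 1, 1])
    (by decide +kernel) (by decide +kernel) (by decide +kernel)

def s : GL (Fin 3) F4 := mkGL (mat 3 [[0, 0, 1], [1, 0, 1], [0, 1, 0]]) (mat 3 [[1, 1, 0], [0, 0, 1], [1, 0, 0]])
    (by decide +kernel)

def φ : GL (Fin 3) F4 := mkGL (mat 3 [[1, 1, 0], [1, 0, 1], [0, 0, 1]]) (mat 3 [[0, 1, 1], [1, 1, 1], [0, 0, 1]])
    (by decide +kernel)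

def g : GL (Fin 3) F4 := mkGL (mat 3 [[1, 1, 0], [0, 1, 0], [0, 0, 1]]) (mat 3 [[1, 1, 0], [0, 1, 0], [0, 0, 1]])
    (by decide +kernel)

theorem s_mem : s ∈ vstab (pts l) ⊓ (specialLinear _ F4) :=
  ⟨mem_vstab_pts fun p hp => mem _ ((by decide +kernel : ∀ p ∈ l, tst b (s.1 *ᵥ p) = true) p hp),
    mem_sl.2 (by decide +kernel)⟩

theorem φ_mem : φ ∈ vstab (pts l) ⊓ (specialLinear _ F4) :=
  ⟨mem_vstab_pts fun p hp => mem _ ((by decide +kernel : ∀ p ∈ l, tst b (φ.1 *ᵥ p) = true) p hp),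
    mem_sl.2 (by decide +kernel)⟩

theorem g_mem : g ∈ vstab (pts l) ⊓ (specialLinear _ F4) :=
  ⟨mem_vstab_pts fun p hp => mem _ ((by decide +kernel : ∀ p ∈ l, tst b (g.1 *ᵥ p) = true) p hp),
    mem_sl.2 (by decide +kernel)⟩

def P (j : ℕ) : Matrix (Fin 3) (Fin 3) F4 := mat 3 ([[[1, 0, 0], [0, 1, 0], [0, 0, 1]], [[0, 0, 1], [1, 0, 1], [0,
    1, 0]], [[0, 1, 0], [0, 1, 1], [1, 0, 1]], [[1, 0, 1], [1, 1, 1], [0, 1, 1]], [[0, 1, 1], [1, 1, 0], [1, 1, 1]],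
    [[1, 1, 1], [1, 0, 0], [1, 1, 0]], [[1, 1, 0], [0, 0, 1], [1, 0, 0]], [[1, 0, 0], [0, 1, 0], [0, 0, 1]]].getD j
    [])

def Q (j : ℕ) : Matrix (Fin 3) (Fin 3) F4 := mat 3 ([[[1, 0, 0], [0, 1, 0], [0, 0, 1]], [[1, 1, 0], [1, 0, 1], [0,
    0, 1]], [[0, 1, 1], [1, 1, 1], [0, 0, 1]], [[1, 0, 0], [0, 1, 0], [0, 0, 1]]].getD j [])

theorem data : SingerData 3 7 (fun _ _ => 0) s.1 φ.1 g.1 P Q (vec 3 [0, 0, 1]) :=
  ⟨by decide +kernel, by decide +kernel, by decide +kernel, by decide +kernel, by decide +kernel, by decide +kernel,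
    by decide +kernel, by decide +kernel, forall_three (by decide +kernel), by decide +kernel⟩

theorem not_max (hF : Fintype.card F = 4) {H : Subgroup (GL (Fin 3) F)} (hM : IsMaximalIn (specialLinear _ _) H)
    {K : Subalgebra F (Matrix (Fin 3) (Fin 3) F)} (hK : IsFieldSubalgebra 3 K) (hH : H ≤ subalgebraNormalizer K) : False := by
  obtain ⟨t, -, h5, h6, h7⟩ := exists_singer (r := 7) hK (by decide) (by rw [hF]; decide) (by rw [hF]; decide)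
  refine not_max_singer data (by decide) (by decide) (le_inf (fun _ _ _ _ => rfl) le_rfl) (fun h8 => ?_) s_mem φ_mem g_mem
    (scalars_le_pts _) not_le (tg (FiniteField.ringEquivOfCardEq (card_F4.trans hF.symm)) 1) (comap_sl _ _) hM h6 h5
    (hH.trans h7)
  have := h8.trans (Subgroup.card_subgroup_dvd_card _)
  rw [Matrix.card_GL_field, card_F4] at this
  exact absurd this (by decide +kernel)

end L34

namespace U33

def l : List (Fin 3 → F9) := [[0, 1, 2], [1, 0, 1], [1, 3, 5], [1, 6, 8], [1, 1, 0], [1, 4, 4], [1, 4, 7], [1, 4,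
    2], [1, 7, 4], [1, 7, 7], [1, 7, 2], [1, 2, 4], [1, 2, 7], [1, 2, 5], [1, 2, 8], [1, 5, 3], [1, 5, 2], [1, 5,
    5], [1, 8, 6], [1, 8, 2], [1, 8, 8]].map (vec 3)

def b : ℕ := 0x4e200680801380692900201385801011c2442c4006859b0c46200210101000801c413810c261250400101620104ea248a8810381c002c2a26c101000406a44106148901b000811282c10252890000ec00500401004010040100400

theorem mem (x : Fin 3 → F9) (h : tst b x = true) : x ∈ pts l :=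
  (forall_three (p := fun x => tst b x = true → ∃ p ∈ l, x = lead x • p) (by decide +kernel) x h).elim fun p hp => ⟨_, p, hp⟩

def u : GL (Fin 3) F9 := mkGL (mat 3 [[4, 2, 3], [1, 4, 1], [3, 2, 4]]) (mat 3 [[7, 1, 6], [2, 7, 2], [6, 1, 7]])
    (by decide +kernel)

theorem not_le : ¬ GU 3 F9 3 ⊓ specialLinear _ _ ≤ vstab (pts l) :=
  not_le_pts (u := u) (mem_su' card_F9 (by decide +kernel) (by decide +kernel)) (p := vec 3 [0, 1, 2]) (y := vec 3 [8, 3, 7])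
    (by decide +kernel) (by decide +kernel) (by decide +kernel)

def s : GL (Fin 3) F9 := mkGL (mat 3 [[2, 3, 7], [8, 3, 6], [3, 4, 2]]) (mat 3 [[2, 5, 6], [6, 6, 7], [4, 3, 2]])
    (by decide +kernel)

def φ : GL (Fin 3) F9 := mkGL (mat 3 [[8, 6, 2], [6, 1, 7], [3, 8, 3]]) (mat 3 [[5, 3, 6], [3, 1, 5], [2, 4, 6]])
    (by decide +kernel)

def g : GL (Fin 3) F9 := mkGL (mat 3 [[1, 5, 1], [8, 0, 4], [1, 7, 1]]) (mat 3 [[1, 5, 1], [8, 0, 4], [1, 7, 1]])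
    (by decide +kernel)

theorem s_mem : s ∈ vstab (pts l) ⊓ (GU 3 F9 3 ⊓ specialLinear _ _) :=
  ⟨mem_vstab_pts fun p hp => mem _ ((by decide +kernel : ∀ p ∈ l, tst b (s.1 *ᵥ p) = true) p hp),
    mem_su' card_F9 (by decide +kernel) (by decide +kernel)⟩

theorem φ_mem : φ ∈ vstab (pts l) ⊓ (GU 3 F9 3 ⊓ specialLinear _ _) :=
  ⟨mem_vstab_pts fun p hp => mem _ ((by decide +kernel : ∀ p ∈ l, tst b (φ.1 *ᵥ p) = true) p hp),
    mem_su' card_F9 (by decide +kernel) (by decide +kernel)⟩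

theorem g_mem : g ∈ vstab (pts l) ⊓ (GU 3 F9 3 ⊓ specialLinear _ _) :=
  ⟨mem_vstab_pts fun p hp => mem _ ((by decide +kernel : ∀ p ∈ l, tst b (g.1 *ᵥ p) = true) p hp),
    mem_su' card_F9 (by decide +kernel) (by decide +kernel)⟩

def P (j : ℕ) : Matrix (Fin 3) (Fin 3) F9 := mat 3 ([[[1, 0, 0], [0, 1, 0], [0, 0, 1]], [[2, 3, 7], [8, 3, 6], [3,
    4, 2]], [[0, 7, 8], [0, 4, 5], [6, 0, 0]], [[8, 7, 0], [2, 3, 5], [3, 1, 8]], [[5, 2, 6], [4, 6, 1], [0, 8, 5]],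
    [[0, 0, 3], [4, 7, 0], [5, 8, 0]], [[2, 5, 6], [6, 6, 7], [4, 3, 2]], [[1, 0, 0], [0, 1, 0], [0, 0, 1]]].getD j
    [])

def Q (j : ℕ) : Matrix (Fin 3) (Fin 3) F9 := mat 3 ([[[1, 0, 0], [0, 1, 0], [0, 0, 1]], [[8, 6, 2], [6, 1, 7], [3,
    8, 3]], [[5, 3, 6], [3, 1, 5], [2, 4, 6]], [[1, 0, 0], [0, 1, 0], [0, 0, 1]]].getD j [])

theorem data : SingerData 3 7 (hermForm 3 F9 3) s.1 φ.1 g.1 P Q (vec 3 [0, 1, 4]) :=
  ⟨by decide +kernel, by decide +kernel, by decide +kernel, by decide +kernel, by decide +kernel, by decide +kernel,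
    by decide +kernel, by decide +kernel, forall_three (by decide +kernel), by decide +kernel⟩

theorem not_max (hF : Fintype.card F = 3 ^ 2) {H : Subgroup (GL (Fin 3) F)}
    (hM : IsMaximalIn (GU 3 F 3 ⊓ specialLinear _ _) H) {K : Subalgebra F (Matrix (Fin 3) (Fin 3) F)}
    (hK : IsFieldSubalgebra 3 K) (hA : IsAdjointClosedFor (hermForm 3 F 3) K) (hH : H ≤ subalgebraNormalizer K) : False :=
  not_max_su_singer card_F9 hF data (by decide) (by decide) (by decide) (by decide) (by decide) (by decide +kernel)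
    s_mem φ_mem g_mem (scalars_le_pts _) not_le hM hK hA hH

end U33

namespace U52

def l : List (Fin 5 → F4) := [[0, 0, 1, 0, 1], [0, 0, 1, 0, 3], [0, 1, 0, 1, 0], [0, 1, 0, 3, 0], [0, 1, 2, 2, 3],
    [0, 1, 2, 1, 2], [0, 1, 2, 1, 1], [0, 1, 2, 3, 2], [0, 1, 2, 3, 1], [0, 1, 1, 0, 0], [0, 1, 1, 1, 1], [0, 1, 1,
    3, 3], [0, 1, 3, 0, 0], [0, 1, 3, 1, 3], [0, 1, 3, 3, 2], [1, 0, 0, 0, 2], [1, 0, 0, 0, 3], [1, 0, 0, 2, 0], [1,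
    0, 0, 1, 0], [1, 0, 2, 2, 1], [1, 0, 2, 1, 2], [1, 0, 2, 1, 1], [1, 0, 1, 2, 1], [1, 0, 1, 2, 3], [1, 0, 1, 1,
    1], [1, 0, 3, 2, 2], [1, 0, 3, 1, 3], [1, 0, 3, 3, 1], [1, 2, 0, 2, 2], [1, 2, 0, 1, 3], [1, 2, 0, 3, 1], [1, 2,
    2, 0, 3], [1, 2, 2, 1, 0], [1, 2, 1, 0, 2], [1, 2, 1, 2, 0], [1, 2, 3, 0, 1], [1, 2, 3, 3, 0], [1, 1, 0, 1, 2],
    [1, 1, 0, 3, 2], [1, 1, 0, 3, 3], [1, 1, 1, 0, 2], [1, 1, 1, 0, 3], [1, 1, 1, 2, 0], [1, 1, 1, 1, 0], [1, 1, 3,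
    0, 2], [1, 1, 3, 2, 0], [1, 3, 0, 2, 3], [1, 3, 0, 3, 2], [1, 3, 0, 3, 3], [1, 3, 2, 0, 2], [1, 3, 2, 0, 3], [1,
    3, 2, 2, 0], [1, 3, 2, 1, 0], [1, 3, 3, 0, 3], [1, 3, 3, 1, 0]].map (vec 5)

def b : ℕ := 0x10080000101c60200104001810022480011a00000108064020416680042100060014101c000020a01106010400008a000108001210044820802128014aa0000a0102001410088240000010021106c8000000011a001204c0c2c084010841000c82404c000c80101c4060248002601106a080a2004820011a1010110001100000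

theorem mem (x : Fin 5 → F4) (h : tst b x = true) : x ∈ pts l :=
  (forall_five (p := fun x => tst b x = true → ∃ p ∈ l, x = lead x • p) (by decide +kernel) x h).elim fun p hp => ⟨_, p, hp⟩

def u : GL (Fin 5) F4 := mkGL (mat 5 [[0, 3, 1, 1, 0], [2, 0, 2, 2, 0], [1, 3, 0, 1, 0], [1, 3, 1, 0, 0], [0, 0, 0,
    0, 1]]) (mat 5 [[0, 3, 1, 1, 0], [2, 0, 2, 2, 0], [1, 3, 0, 1, 0], [1, 3, 1, 0, 0], [0, 0, 0, 0, 1]])
    (by decide +kernel)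

theorem not_le : ¬ GU 5 F4 2 ⊓ specialLinear _ _ ≤ vstab (pts l) :=
  not_le_pts (u := u) (mem_su' card_F4 (by decide +kernel) (by decide +kernel)) (p := vec 5 [0, 0, 1, 0, 1]) (y := vec 5 [1, 2, 0, 1, 1])
    (by decide +kernel) (by decide +kernel) (by decide +kernel)

def s : GL (Fin 5) F4 := mkGL (mat 5 [[2, 1, 2, 2, 1], [0, 1, 3, 1, 0], [3, 3, 2, 0, 0], [1, 2, 2, 1, 3], [0, 3, 2,
    0, 2]]) (mat 5 [[3, 0, 2, 1, 0], [1, 1, 2, 3, 2], [3, 2, 3, 3, 3], [3, 1, 0, 1, 0], [1, 0, 0, 2, 3]])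
    (by decide +kernel)

def φ : GL (Fin 5) F4 := mkGL (mat 5 [[0, 3, 2, 1, 0], [2, 2, 1, 0, 0], [3, 3, 0, 1, 0], [2, 0, 1, 3, 0], [0, 0, 0,
    0, 1]]) (mat 5 [[0, 3, 2, 3, 0], [2, 3, 2, 0, 0], [3, 1, 0, 1, 0], [1, 0, 1, 2, 0], [0, 0, 0, 0, 1]])
    (by decide +kernel)

def g : GL (Fin 5) F4 := mkGL (mat 5 [[0, 0, 2, 0, 0], [0, 0, 0, 3, 0], [3, 0, 0, 0, 0], [0, 2, 0, 0, 0], [0, 0, 0,
    0, 1]]) (mat 5 [[0, 0, 2, 0, 0], [0, 0, 0, 3, 0], [3, 0, 0, 0, 0], [0, 2, 0, 0, 0], [0, 0, 0, 0, 1]])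
    (by decide +kernel)

theorem s_mem : s ∈ vstab (pts l) ⊓ (GU 5 F4 2 ⊓ specialLinear _ _) :=
  ⟨mem_vstab_pts fun p hp => mem _ ((by decide +kernel : ∀ p ∈ l, tst b (s.1 *ᵥ p) = true) p hp),
    mem_su' card_F4 (by decide +kernel) (by decide +kernel)⟩

theorem φ_mem : φ ∈ vstab (pts l) ⊓ (GU 5 F4 2 ⊓ specialLinear _ _) :=
  ⟨mem_vstab_pts fun p hp => mem _ ((by decide +kernel : ∀ p ∈ l, tst b (φ.1 *ᵥ p) = true) p hp),
    mem_su' card_F4 (by decide +kernel) (by decide +kernel)⟩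

theorem g_mem : g ∈ vstab (pts l) ⊓ (GU 5 F4 2 ⊓ specialLinear _ _) :=
  ⟨mem_vstab_pts fun p hp => mem _ ((by decide +kernel : ∀ p ∈ l, tst b (g.1 *ᵥ p) = true) p hp),
    mem_su' card_F4 (by decide +kernel) (by decide +kernel)⟩

def P (j : ℕ) : Matrix (Fin 5) (Fin 5) F4 := mat 5 ([[[1, 0, 0, 0, 0], [0, 1, 0, 0, 0], [0, 0, 1, 0, 0], [0, 0, 0,
    1, 0], [0, 0, 0, 0, 1]], [[2, 1, 2, 2, 1], [0, 1, 3, 1, 0], [3, 3, 2, 0, 0], [1, 2, 2, 1, 3], [0, 3, 2, 0, 2]],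
    [[0, 2, 2, 0, 1], [3, 1, 0, 0, 3], [0, 1, 0, 2, 3], [2, 2, 3, 1, 3], [1, 3, 2, 3, 3]], [[1, 0, 0, 2, 2], [1, 0,
    3, 0, 2], [2, 0, 1, 3, 0], [0, 2, 0, 0, 0], [0, 0, 3, 2, 2]], [[0, 3, 2, 0, 3], [0, 2, 0, 2, 2], [3, 0, 0, 0,
    0], [0, 2, 1, 2, 0], [0, 0, 1, 2, 2]], [[1, 0, 0, 3, 1], [2, 0, 1, 0, 2], [1, 3, 1, 1, 3], [1, 2, 0, 0, 1], [1,
    1, 2, 2, 2]], [[1, 3, 1, 1, 1], [0, 0, 2, 3, 1], [0, 1, 1, 0, 3], [2, 0, 1, 0, 3], [1, 3, 2, 1, 3]], [[0, 0, 2,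
    0, 0], [2, 3, 0, 3, 0], [3, 0, 0, 1, 1], [0, 3, 0, 3, 3], [2, 3, 0, 0, 3]], [[1, 1, 3, 0, 0], [0, 0, 0, 3, 0],
    [0, 2, 1, 0, 2], [3, 0, 2, 0, 3], [3, 3, 0, 0, 3]], [[0, 2, 0, 3, 1], [3, 1, 1, 3, 2], [3, 0, 0, 2, 3], [0, 0,
    3, 1, 2], [1, 2, 2, 2, 2]], [[3, 0, 2, 1, 0], [1, 1, 2, 3, 2], [3, 2, 3, 3, 3], [3, 1, 0, 1, 0], [1, 0, 0, 2,
    3]], [[1, 0, 0, 0, 0], [0, 1, 0, 0, 0], [0, 0, 1, 0, 0], [0, 0, 0, 1, 0], [0, 0, 0, 0, 1]]].getD j [])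

def Q (j : ℕ) : Matrix (Fin 5) (Fin 5) F4 := mat 5 ([[[1, 0, 0, 0, 0], [0, 1, 0, 0, 0], [0, 0, 1, 0, 0], [0, 0, 0,
    1, 0], [0, 0, 0, 0, 1]], [[0, 3, 2, 1, 0], [2, 2, 1, 0, 0], [3, 3, 0, 1, 0], [2, 0, 1, 3, 0], [0, 0, 0, 0, 1]],
    [[2, 0, 2, 1, 0], [0, 1, 1, 3, 0], [3, 3, 3, 0, 0], [2, 2, 0, 1, 0], [0, 0, 0, 0, 1]], [[3, 0, 2, 3, 0], [0, 1,
    2, 3, 0], [3, 1, 2, 0, 0], [1, 2, 0, 1, 0], [0, 0, 0, 0, 1]], [[0, 3, 2, 3, 0], [2, 3, 2, 0, 0], [3, 1, 0, 1,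
    0], [1, 0, 1, 2, 0], [0, 0, 0, 0, 1]], [[1, 0, 0, 0, 0], [0, 1, 0, 0, 0], [0, 0, 1, 0, 0], [0, 0, 0, 1, 0], [0,
    0, 0, 0, 1]]].getD j [])

theorem data : SingerData 5 11 (hermForm 5 F4 2) s.1 φ.1 g.1 P Q (vec 5 [0, 0, 0, 1, 2]) :=
  ⟨by decide +kernel, by decide +kernel, by decide +kernel, by decide +kernel, by decide +kernel, by decide +kernel,
    by decide +kernel, by decide +kernel, forall_five (by decide +kernel), by decide +kernel⟩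

theorem not_max (hF : Fintype.card F = 2 ^ 2) {H : Subgroup (GL (Fin 5) F)}
    (hM : IsMaximalIn (GU 5 F 2 ⊓ specialLinear _ _) H) {K : Subalgebra F (Matrix (Fin 5) (Fin 5) F)}
    (hK : IsFieldSubalgebra 5 K) (hA : IsAdjointClosedFor (hermForm 5 F 2) K) (hH : H ≤ subalgebraNormalizer K) : False :=
  not_max_su_singer card_F4 hF data (by decide) (by decide) (by decide) (by decide) (by decide) (by decide +kernel)
    s_mem φ_mem g_mem (scalars_le_pts _) not_le hM hK hA hH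

end U52

end Cfsg.Lib.Asch
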