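import Cfsg.Agent.Lib.Asch.Small

/-! Frame stabilisers in `SU₄(3)` and `SU₆(2)` are not maximal. -/

set_option autoImplicit false

namespace Cfsg.Lib.Asch

open scoped MatrixGroups Matrix
open Cfsg.Geo Module

variable {F : Type*} [Field F] [Fintype F]

def u9 : GL (Fin 4) F9 := mkGL !![-1, 1, TF.c 4, 0; 1, -1, TF.c 4, 0; TF.c 7, TF.c 7, 0, 0; 0, 0, 0, -1]
  !![-1, 1, TF.c 4, 0; 1, -1, TF.c 4, 0; TF.c 7, TF.c 7, 0, 0; 0, 0, 0, -1] (by decide +kernel)

def g9 : GL (Fin 4) F9 := mkGL !![1, 1, 1, 1; -1, -1, 1, 1; -1, 1, -1, 1; -1, 1, 1, -1]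
  !![1, -1, -1, -1; 1, -1, 1, 1; 1, 1, -1, 1; 1, 1, 1, -1] (by decide +kernel)

theorem g9_mem : g9 ∈ vstab (monT 4 2 g31) := mem_vstab.2 (forall_four (by unfold monT g31; decide +kernel))

theorem not_max_su_four_dec (hF : Fintype.card F = 3 ^ 2) {H : Subgroup (GL (Fin 4) F)}
    (hM : IsMaximalIn (GU 4 F 3 ⊓ specialLinear _ _) H) {D : Fin 4 → Submodule F (Fin 4 → F)}
    (hD : IsNondegenerateMDecomposition (hermForm 4 F 3) 1 D) (h : H ≤ decompositionStabilizer D) : False :=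
  not_max_su_dec (F₀ := F9) (l := 2) hF card_F9 (by decide) g31 (u := u9) (mem_su card_F9 (by decide +kernel) (by decide +kernel))
    (x := ![1, 0, 0, 0]) (by unfold monT g31; decide +kernel) (by unfold monT g31; decide +kernel)
    (g := g9) (mem_su card_F9 (by decide +kernel) (by decide +kernel)) g9_mem
    (not_mono (i := 0) (j := 0) (k := 1) (by decide) (by decide +kernel) (by decide +kernel)) hM hD h

theorem forall_six {α : Type*} {p : (Fin 6 → α) → Prop} (h : ∀ a b c d e f, p ![a, b, c, d, e, f]) (x : Fin 6 → α) :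
    p x := by
  convert h (x 0) (x 1) (x 2) (x 3) (x 4) (x 5); ext i; fin_cases i <;> rfl

def u4 : GL (Fin 6) F4 :=
  let u : Matrix (Fin 6) (Fin 6) F4 :=
    !![0, 1, 1, 1, 0, 0; 1, 0, 1, 1, 0, 0; 1, 1, 0, 1, 0, 0; 1, 1, 1, 0, 0, 0; 0, 0, 0, 0, 1, 0; 0, 0, 0, 0, 0, 1]
  mkGL u u (by decide +kernel)

def g4 : GL (Fin 6) F4 :=
  let g : Matrix (Fin 6) (Fin 6) F4 :=
    !![0, 1, 1, 1, 1, 1; 1, 0, 1, 1, 1, 1; 1, 1, 0, 1, 1, 1; 1, 1, 1, 0, 1, 1; 1, 1, 1, 1, 0, 1; 1, 1, 1, 1, 1, 0]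
  mkGL g g (by decide +kernel)

theorem g4_mem : g4 ∈ vstab (monT 3 1 fun c d => c 0 = 4 ∨ d = 1) :=
  mem_vstab.2 (forall_six (by unfold monT; decide +kernel))

theorem not_max_su_six_dec (hF : Fintype.card F = 2 ^ 2) {H : Subgroup (GL (Fin 6) F)}
    (hM : IsMaximalIn (GU 6 F 2 ⊓ specialLinear _ _) H) {D : Fin 6 → Submodule F (Fin 6 → F)}
    (hD : IsNondegenerateMDecomposition (hermForm 6 F 2) 1 D) (h : H ≤ decompositionStabilizer D) : False :=
  not_max_su_dec (F₀ := F4) (l := 1) hF card_F4 (by decide) (fun c d => c 0 = 4 ∨ d = 1)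
    (u := u4) (mem_su card_F4 (by decide +kernel) (by decide +kernel)) (x := ![1, 0, 0, 0, 1, 0])
    (by unfold monT; decide +kernel) (by unfold monT; decide +kernel)
    (g := g4) (mem_su card_F4 (by decide +kernel) (by decide +kernel)) g4_mem
    (not_mono (i := 0) (j := 1) (k := 2) (by decide) (by decide +kernel) (by decide +kernel)) hM hD h

end Cfsg.Lib.Asch
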