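import Cfsg.Agent.Lib.Asch.SmallU
import Cfsg.Agent.Lib.Asch.SpFour
import Cfsg.Agent.Lib.Symp.MaxUnit

/-! `GL₂(3).2` and `GU₂(3).2` are not maximal in `Sp₄(3)`. -/

set_option autoImplicit false
set_option linter.unusedSectionVars false

namespace Cfsg.Lib.Asch

open scoped MatrixGroups Matrix
open Cfsg.Geo Cfsg.Lib.Core Module Matrix

abbrev I4 := Fin 2 ⊕ Fin 2

instance fact_prime_three' : Fact (Nat.Prime 3) := ⟨by decide⟩

def jz {F : Type*} [Field F] (s : F) : Matrix I4 I4 F := fromBlocks 0 1 (s • 1) 0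

def pm {F : Type*} [Field F] (s : F) (t J : Matrix I4 I4 F) : Prop := t * J = -(J * t) ∨ s = -1 ∧ t * J = J * t

instance decPm (s : ZMod 3) (t J : Matrix I4 I4 (ZMod 3)) : Decidable (pm s t J) := by unfold pm; infer_instance

def g3 : GL I4 (ZMod 3) := mkGL (fromBlocks !![0, 0; 2, 0] !![0, 2; 2, 0] !![0, 1; 1, 0] !![0, 2; 0, 0])
  (fromBlocks !![0, 0; 2, 0] !![0, 1; 1, 0] !![0, 2; 2, 0] !![0, 2; 0, 0]) (by decide +kernel)

def u3 : GL I4 (ZMod 3) := mkGL (fromBlocks 1 0 !![0, 0; 0, 2] 1) (fromBlocks 1 0 !![0, 0; 0, 1] 1) (by decide +kernel)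

def t3 : GL I4 (ZMod 3) := mkGL (fromBlocks 0 !![0, 2; 1, 0] !![0, 1; 2, 0] 0) (fromBlocks 0 !![0, 2; 1, 0] !![0, 1; 2, 0] 0)
  (by decide +kernel)

def j3 (s : ZMod 3) : Matrix I4 I4 (ZMod 3) := fromBlocks !![-s, 0; 0, 2] !![-s, 0; 0, 1 - s] !![s - 1, 0; 0, 2] !![s, 0; 0, 1]

theorem key3 : ∀ s c : ZMod 3, s ≠ 0 → c = -1 ∨ s = -1 ∧ c = 1 → ∀ a a' b b' : ZMod 3,
    c * (a * a + a' * a' - s * (b * b + b' * b')) = 1 → ∀ d d' e e' : ZMod 3, a * e + a' * e' = b * d + b' * d' →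
    a * d + a' * d' = s * (b * e + b' * e') → c * (d * d + d' * d' - s * (e * e + e' * e')) = 1 →
    let t := fromBlocks !![a, d; a', d'] !![b, e; b', e'] ((c * s) • !![b, e; b', e']) (c • !![a, d; a', d'])
    t * t = 1 → pm s t (j3 s) := by decide +kernel

theorem key3' : ∀ s : ZMod 3, s ≠ 0 → pm s t3.1 (jz s) ∧ ¬ pm s (u3.1 * t3.1 * u3.inv) (jz s) ∧
    g3.inv * jz s * g3.1 = j3 s ∧ g3.1 * jz s * g3.inv ≠ jz s ∧ g3.1 * jz s * g3.inv ≠ -jz s := by decide +kernel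

theorem mem_sp {F : Type*} [Field F] {g : GL I4 F} (h : g.1ᵀ * J (Fin 2) F * g.1 = J (Fin 2) F) : g ∈ spGL 2 F :=
  fun u v => by
    change (g.1 *ᵥ u) ⬝ᵥ J _ F *ᵥ g.1 *ᵥ v = u ⬝ᵥ J _ F *ᵥ v
    rw [← vecMul_transpose, ← dotProduct_mulVec, mulVec_mulVec, mulVec_mulVec, h]

theorem pm_j3 {s : ZMod 3} (hs : s ≠ 0) {t : GL I4 (ZMod 3)} (h1 : t ∈ spGL 2 (ZMod 3)) (h2 : t.1 * t.1 = 1)
    (h3 : pm s t.1 (jz s)) : pm s t.1 (j3 s) := by
  obtain ⟨c, h4, h5⟩ : ∃ c : ZMod 3, (c = -1 ∨ s = -1 ∧ c = 1) ∧ t.1 * jz s = c • (jz s * t.1) :=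
    h3.elim (fun h => ⟨-1, .inl rfl, by rw [h, neg_one_smul]⟩) fun h => ⟨1, .inr ⟨h.1, rfl⟩, by rw [h.2, one_smul]⟩
  have hc : c * c = 1 := by rcases h4 with rfl | ⟨-, rfl⟩ <;> simp
  have h6 : ∀ i j, _ := fun i j => h1 (Pi.single i 1) (Pi.single j 1)
  obtain ⟨A, B, C, D, ht⟩ : ∃ A B C D, t.1 = fromBlocks A B C D := ⟨_, _, _, _, (fromBlocks_toBlocks _).symm⟩
  simp only [glToMat, Units.coeHom_apply] at h6
  rw [ht] at h2 h5 h6 ⊢
  simp only [jz, fromBlocks_multiply, Matrix.mul_zero, Matrix.zero_mul, Matrix.mul_one, Matrix.one_mul, zero_add,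
    add_zero, fromBlocks_smul, fromBlocks_inj, Matrix.mul_smul, Matrix.smul_mul] at h5
  obtain rfl : C = (c * s) • B := by rw [mul_smul, h5.1, smul_smul, hc, one_smul]
  obtain rfl : D = c • A := by rw [h5.2.1, smul_smul, hc, one_smul]
  have k1 := h6 (.inr 0) (.inl 0)
  have k2 := h6 (.inl 0) (.inl 1)
  have k3 := h6 (.inr 0) (.inl 1)
  have k4 := h6 (.inr 1) (.inl 1)
  simp [sympForm, J, dotProduct, mulVec, Fintype.sum_sum_type, Pi.single_apply, one_apply] at k1 k2 k3 k4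
  rw [eta_fin_two A, eta_fin_two B] at h2 ⊢
  have hc0 := left_ne_zero_of_mul_eq_one hc
  exact key3 s c hs h4 _ _ _ _ (by linear_combination k1) _ _ _ _
    (mul_left_cancel₀ (mul_ne_zero hc0 hs) (by linear_combination -k2)) (mul_left_cancel₀ hc0 (by linear_combination k3))
    (by linear_combination k4) h2

theorem sp_four_three {s : ZMod 3} (hs : s ≠ 0) {H : Subgroup (GL I4 (ZMod 3))} (hM : IsMaximalIn (spGL 2 _) H)
    (h : ∀ g ∈ H, cj g (jz s) = jz s ∨ cj g (jz s) = -jz s) : False := by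
  let T : Set (GL I4 (ZMod 3)) := {t | t ∈ spGL 2 _ ∧ t.1 * t.1 = 1 ∧ pm s t.1 (jz s)}
  have key : ∀ g ∈ spGL 2 (ZMod 3), (∀ t ∈ T, pm s t.1 (cj g⁻¹ (jz s))) →
      g ∈ pstab (fun g t => g * t * g⁻¹) (by simp) (by simp [mul_assoc]) T := fun g hg h1 t ht => by
    refine ⟨mul_mem (mul_mem hg ht.1) (inv_mem hg), ?_, ?_⟩
    · change cj g t.1 * cj g t.1 = 1
      rw [← cj_mul_mat, ht.2.1, cj_one_mat]
    · change pm s (cj g t.1) _
      rw [← cj_cj_inv g (jz s), pm, ← cj_mul_mat, ← cj_mul_mat]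
      exact (h1 t ht).imp (fun h => by rw [h, ← neg_one_smul (ZMod 3), cj_smul, neg_one_smul]) fun h => ⟨h.1, by rw [h.2]⟩
  have h1 := eq_inf_of_max hM (fun g hg => key g (hM.1.le hg) fun t ht => by
    rcases h _ (inv_mem hg) with h | h <;> rw [h]
    · exact ht.2.2
    · simpa [pm, neg_eq_iff_eq_neg] using ht.2.2) fun h2 => (key3' s hs).2.1
      (h2 (mem_sp (g := u3) (by decide +kernel)) t3 ⟨mem_sp (by decide +kernel), by decide +kernel, (key3' s hs).1⟩).2.2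
  have h3 := mem_sp (g := g3) (by decide +kernel)
  exact (h g3 (h1.ge ⟨key _ h3 fun t ht => (show cj g3⁻¹ (jz s) = j3 s from (key3' s hs).2.2.1) ▸
    pm_j3 hs ht.1 ht.2.1 ht.2.2, h3⟩)).elim (key3' s hs).2.2.2.1 (key3' s hs).2.2.2.2

variable {F : Type*} [Field F] [Fintype F] {ι : Type} [Fintype ι] [DecidableEq ι] {f : (ι → F) → (ι → F) → F}

theorem cases_three (hF : Fintype.card F = 3) (a : F) : a = 0 ∨ a = 1 ∨ a = -1 :=
  or_iff_not_imp_left.2 fun h => sq_eq_one_iff.1 (by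
    have := FiniteField.pow_card_sub_one_eq_one a h
    rwa [hF] at this)

theorem SForm.exists_unit_of_skew (h : SForm (RingHom.id F) (-1) f) (hF : Fintype.card F = 3) {J : Matrix ι ι F}
    (h1 : ∀ x y, f (J *ᵥ x) y = -f x (J *ᵥ y)) {s : F} (hs : s ≠ 0) (h2 : ∀ x, J *ᵥ J *ᵥ x = s • x)
    {W : Submodule F (ι → F)} (hW : ∀ x ∈ W, J *ᵥ x ∈ W) {x y : ι → F} (hx : x ∈ W) (hy : y ∈ W) (h0 : f x y ≠ 0) :
    ∃ v ∈ W, f v (J *ᵥ v) = 1 := by
  have h3 : (3 : F) = 0 := by simpa [hF] using FiniteField.cast_card_eq_zero F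
  have h4 : (2 : F) ≠ 0 := fun h => one_ne_zero (by linear_combination h3 - h : (1 : F) = 0)
  have ha := h.alt_of_neg h4
  obtain ⟨v, hv, h5⟩ : ∃ v ∈ W, f v (J *ᵥ v) ≠ 0 := by
    by_contra! h5
    have := h5 _ (W.add_mem hx (hW y hy))
    rw [mulVec_add, h.add_left, h.add_right, h.add_right, h5 x hx, h5 _ (hW y hy), h2, h.herm (J *ᵥ y), h1, h2,
      h.smul_right] at this
    exact mul_ne_zero h4 (mul_ne_zero hs h0) (by simpa [two_mul] using this)
  rcases cases_three hF (f v (J *ᵥ v)) with h6 | h6 | h6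
  · exact absurd h6 h5
  · exact ⟨v, hv, h6⟩
  have h7 : f (J *ᵥ v) v = 1 := by rw [h1, h6, neg_neg]
  rcases cases_three hF s with rfl | rfl | rfl
  · exact absurd rfl hs
  · exact ⟨_, hW v hv, by rw [h2, one_smul, h7]⟩
  · refine ⟨_, W.add_mem hv (hW v hv), ?_⟩
    rw [mulVec_add, h2, neg_one_smul, h.add_left, h.add_right, h.add_right, h.neg_right, h.neg_right, ha, ha, h6, h7]
    linear_combination -h3

theorem not_max_sp_four (hF : Fintype.card F = 3) {H : Subgroup (GL I4 F)} (hM : IsMaximalIn (spGL 2 F) H)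
    {J : Matrix I4 I4 F} (h1 : ∀ x y, sympForm 2 F (J *ᵥ x) y = -sympForm 2 F x (J *ᵥ y)) {s : F} (hs : s ≠ 0)
    (h2 : ∀ x, J *ᵥ J *ᵥ x = s • x) (hH : ∀ g ∈ H, cj g J = J ∨ cj g J = -J) : False := by
  have h := sform_sympForm (F := F) 2
  set f := sympForm 2 F with hf
  have ha : ∀ v, f v v = 0 := sympForm_alt 2
  have sk : ∀ u v, f u v = -f v u := fun u v => by rw [h.herm]; simp
  obtain ⟨i, j, h3⟩ := h.exists_single_ne 1
  obtain ⟨v, -, hv⟩ := h.exists_unit_of_skew hF h1 hs h2 (W := ⊤) (fun _ _ => trivial) trivial trivial h3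
  obtain ⟨x, -, h4, h5, h6⟩ := h.exists_perp₂ (W := ⊤) (by simp) v (J *ᵥ v)
  obtain ⟨y, h7⟩ : ∃ y, f x y ≠ 0 := by by_contra! h7; exact h4 (h.nondeg' x h7)
  let W : Submodule F (I4 → F) :=
    { carrier := {x | f x v = 0 ∧ f x (J *ᵥ v) = 0}
      add_mem' := fun hx hy => ⟨by rw [h.add_left, hx.1, hy.1, add_zero], by rw [h.add_left, hx.2, hy.2, add_zero]⟩
      zero_mem' := ⟨h.zero_left _, h.zero_left _⟩
      smul_mem' := fun c x hx => ⟨by rw [h.smul_left, hx.1, mul_zero], by rw [h.smul_left, hx.2, mul_zero]⟩ }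
  obtain ⟨w, ⟨h8, h9⟩, hw⟩ := h.exists_unit_of_skew hF h1 hs h2 (W := W)
    (fun x hx => ⟨by rw [h1, hx.2, neg_zero], by rw [h1, h2, h.smul_right, hx.1]; simp⟩) (x := x)
    (y := y - f y (J *ᵥ v) • v + f y v • J *ᵥ v) ⟨h5, h6⟩
    ⟨by rw [h.add_left, h.sub_left, h.smul_left, h.smul_left, ha, h1, hv]; ring,
      by rw [h.add_left, h.sub_left, h.smul_left, h.smul_left, ha, hv]; ring⟩
    (by rwa [h.add_right, h.sub_right, h.smul_right, h.smul_right, h5, h6, mul_zero, mul_zero, sub_zero, add_zero])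
  let b : I4 → I4 → F := Sum.elim ![J *ᵥ v, J *ᵥ w] ![v, w]
  have hb : ∀ i j, f (b i) (b j) = Matrix.J (Fin 2) F i j := by
    have k1 : f v w = 0 := by rw [sk, h8, neg_zero]
    have k2 : f v (J *ᵥ w) = 0 := by rw [sk, h1, h9]; simp
    simp [b, Matrix.J, h1, h2, h.smul_right, ha, hv, hw, h8, h9, k1, k2]
  have hP : (of b) * Matrix.J (Fin 2) F * (of b)ᵀ = Matrix.J (Fin 2) F := by
    ext i j
    rw [← hb, Matrix.mul_assoc]
    rfl
  have hd : (of b)ᵀ.det ≠ 0 := fun h0 => (isUnit_det_J (Fin 2) F).ne_zero (by rw [← hP, det_mul, h0, mul_zero])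
  let P := GeneralLinearGroup.mkOfDetNeZero _ hd
  have hP' : P ∈ spGL 2 F := mem_sp hP
  let e : ZMod 3 ≃+* F := FiniteField.ringEquivOfCardEq (hF.symm ▸ rfl)
  have h10 : cj P ((jz (e.symm s)).map e) = J := by
    rw [cj_def, Units.mul_inv_eq_iff_eq_mul]
    have h11 : ∀ i, J *ᵥ b i = (of b)ᵀ *ᵥ ((jz (e.symm s)).map e).col i := by
      simp only [mulVec_transpose, vecMul_eq_sum]
      simp [b, h2, jz, Fintype.sum_sum_type, one_apply, Matrix.row]
      exact ⟨⟨rfl, rfl⟩, rfl, rfl⟩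
    ext i j
    exact (congrFun (h11 j) i).symm
  have h11 := IsMaximalIn.comap (tg e P) hM
  rw [spGL_eq, comap_iso (f₀ := sympForm 2 _) fun u v => (hP' _ _).trans (by
    simp [sympForm, Matrix.J, dotProduct, mulVec, Fintype.sum_sum_type, one_apply])] at h11
  refine sp_four_three (s := e.symm s) (by simpa using hs) h11 fun g hg => ?_
  have h12 : ∀ X Y : Matrix I4 I4 (ZMod 3), cj P (X.map e) = cj P (Y.map e) → X = Y := fun X Y h =>
    map_injective e.injective (cj_injective P h)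
  have h13 : cj (tg e P g) J = cj P ((cj g (jz (e.symm s))).map e) := by
    rw [cj_def, ← map_inv, coe_tg, coe_tg, ← h10, ← cj_mul_mat, ← cj_mul_mat, cj_def g, Matrix.map_mul, Matrix.map_mul]
  refine (hH _ hg).imp (fun h => h12 _ _ (h13.symm.trans (h.trans h10.symm))) fun h => h12 _ _ (h13.symm.trans (h.trans ?_))
  rw [Matrix.map_neg _ (map_neg e), ← neg_one_smul F (Matrix.map _ _), cj_smul, h10, neg_one_smul]

theorem not_max_sp_pair (hF : Fintype.card F = 3) {H : Subgroup (GL I4 F)} (hM : IsMaximalIn (spGL 2 F) H)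
    {e : Matrix I4 I4 F} (h : TSPair (adj (RingHom.id F) (sympForm 2 F)) H e) : False := by
  have hf := sform_sympForm (F := F) 2
  refine not_max_sp_four hF hM (J := e - (1 - e)) (fun x y => ?_) one_ne_zero (fun x => ?_) fun g hg => ?_
  · rw [hf.adj_spec, hf.isAdj.sub, hf.isAdj.sub, hf.isAdj.one, h.adj, ← hf.neg_right, ← neg_mulVec]
    congr 2; abel
  · rw [mulVec_mulVec, one_smul]
    simp [mul_sub, sub_mul, h.idem]
  · have : cj g (e - (1 - e)) = cj g e - (1 - cj g e) := by simp [cj_def, mul_sub, sub_mul]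
    exact (h.nrm g hg).imp (fun h => by rw [this, h]) fun h => by rw [this, h]; abel

theorem not_max_sp_ufld (hF : Fintype.card F = 3) {H : Subgroup (GL I4 F)} (hM : IsMaximalIn (spGL 2 F) H)
    {K : Subalgebra F (Matrix I4 I4 F)} (hK : FldData (adj (RingHom.id F) (sympForm 2 F)) H 2 K)
    (ha : IsAdjointClosedFor (sympForm 2 F) K) (hs : ¬ IsSelfAdjointFor (sympForm 2 F) K) : False := by
  let _ := (isField_of_isFieldSubalgebra hK.fld).toField
  obtain ⟨j, d, hj⟩ := Symp.exists_uAlt (K := K) (Symp.alt_sympForm 2) (Orth.odd_card_iff.1 (by rw [hF]; decide))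
    hK.fld.finrank_eq (fun κ => (ha κ κ.2).elim fun k hk => ⟨⟨k, hk.1⟩, hk.2⟩) fun h0 => hs fun k hk => h0 ⟨k, hk⟩
  have h0 : j ≠ 0 := fun h => hj.notMem 0 (by rw [h, map_zero])
  refine not_max_sp_four hF hM (J := j.1) hj.skew (s := d) (fun h => h0 (by simpa [h] using hj.sq)) hj.jj fun g hg => ?_
  have h1 : (⟨_, hK.nrm g hg j j.2⟩ : K) * ⟨_, hK.nrm g hg j j.2⟩ = j * j := Subtype.ext (by
    change cj g j.1 * cj g j.1 = (j * j).1
    rw [← cj_mul_mat, ← Subalgebra.coe_mul, hj.sq, Subalgebra.coe_algebraMap, Algebra.algebraMap_eq_smul_one, cj_smul,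
      cj_one_mat])
  exact (mul_self_eq_mul_self_iff.1 h1).imp (congrArg Subtype.val) (congrArg Subtype.val)

end Cfsg.Lib.Asch
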